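import Groth.Agent.GrpAmple.Main
import Groth.Agent.Pi1Ample.FiniteAffine
import Groth.Agent.FlatMor2.AffineThickening
import Mathlib.RingTheory.Artinian.Ring

/-!
# Groups over Artinian rings: finite sets of points lie in affine opens
-/

set_option autoImplicit false

universe u

open CategoryTheory Limits MonoidalCategory CartesianMonoidalCategory MonObj GrpObj AlgebraicGeometry
  TopologicalSpace

namespace Groth.GrpAmple

variable {A : Type u} [CommRing A] [IsArtinianRing A]

/-- The open fibre of a scheme over an Artinian ring. -/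
noncomputable def fibreOpen {X : Scheme.{u}} (g : X ⟶ Spec (CommRingCat.of A)) (p : PrimeSpectrum A) :
    X.Opens :=
  g ⁻¹ᵁ ⟨{p}, isOpen_discrete (α := PrimeSpectrum A) _⟩

/-- Finite sets in one fibre of a group over an Artinian ring lie in an affine open of the fibre. -/
theorem exists_affine_finite_fibre (G : Over (Spec (CommRingCat.of A))) [GrpObj G]
    [LocallyOfFiniteType G.hom] [QuasiCompact G.hom] (p : PrimeSpectrum A) (Z : Set G.left)
    (hZ : Z.Finite) :
    ∃ U : G.left.Opens, IsAffineOpen U ∧ U ≤ fibreOpen G.hom p ∧ Z ∩ fibreOpen G.hom p ⊆ U := by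
  classical
  have : p.asIdeal.IsMaximal := inferInstance
  let : Field (A ⧸ p.asIdeal) := Ideal.Quotient.field p.asIdeal
  let t : Spec (CommRingCat.of (A ⧸ p.asIdeal)) ⟶ Spec (CommRingCat.of A) :=
    Spec.map (CommRingCat.ofHom (Ideal.Quotient.mk p.asIdeal))
  have : IsClosedImmersion t := IsClosedImmersion.spec_of_surjective _ Ideal.Quotient.mk_surjective
  have hrt : Set.range t = {p} := by
    refine Eq.trans (range_comap_of_surjective _ _ Ideal.Quotient.mk_surjective) ?_
    show PrimeSpectrum.zeroLocus (RingHom.ker (Ideal.Quotient.mk p.asIdeal) : Set A) = {p}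
    rw [Ideal.mk_ker]
    ext q
    simp only [PrimeSpectrum.mem_zeroLocus, SetLike.coe_subset_coe, Set.mem_singleton_iff]
    exact ⟨fun h => PrimeSpectrum.ext ((‹p.asIdeal.IsMaximal›).eq_of_le q.isPrime.ne_top h).symm,
      fun h => h ▸ le_rfl⟩
  let : GrpObj ((Over.pullback t).obj G) := Functor.grpObjObj
  have : LocallyOfFiniteType ((Over.pullback t).obj G).hom :=
    inferInstanceAs (LocallyOfFiniteType (pullback.snd G.hom t))
  have : QuasiCompact ((Over.pullback t).obj G).hom :=
    inferInstanceAs (QuasiCompact (pullback.snd G.hom t))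
  obtain ⟨L, hL⟩ := exists_isAmple ((Over.pullback t).obj G)
  let i : pullback G.hom t ⟶ G.left := pullback.fst G.hom t
  have hr : Set.range i = (fibreOpen G.hom p : Set G.left) := by
    rw [Scheme.Pullback.range_fst, hrt]
    rfl
  have hi : IsClosedImmersion i := inferInstanceAs (IsClosedImmersion (pullback.fst G.hom t))
  obtain ⟨V, hV, hZV⟩ := Groth.PropsBasic.Ample.exists_affine_finite (X := pullback G.hom t) hL _
    (hZ.preimage (f := ⇑i) i.isClosedEmbedding.injective.injOn)
  have hcl : IsClosed (i '' ((V : Set ↥(pullback G.hom t))ᶜ)) :=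
    i.isClosedEmbedding.isClosedMap _ V.2.isClosed_compl
  let U : G.left.Opens := fibreOpen G.hom p ⊓ ⟨(i '' ((V : Set ↥(pullback G.hom t))ᶜ))ᶜ, hcl.isOpen_compl⟩
  have hiU : i ⁻¹ᵁ U = V := by
    refine Opens.ext (Set.ext fun y => ⟨fun hy => by_contra fun h => hy.2 ⟨y, h, rfl⟩, fun hy => ⟨?_, ?_⟩⟩)
    · exact hr.le ⟨y, rfl⟩
    · rintro ⟨y', hy', hyy'⟩
      exact hy' (i.isClosedEmbedding.injective hyy' ▸ hy)
  refine ⟨U, ?_, inf_le_left, ?_⟩
  · have : IsClosedImmersion (i ∣_ U) := IsZariskiLocalAtTarget.restrict hi U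
    have : Surjective (i ∣_ U) := ⟨fun x => by
      obtain ⟨y, hy⟩ := hr.ge x.2.1
      refine ⟨⟨y, show i y ∈ U from hy ▸ x.2⟩, Subtype.ext ?_⟩
      exact (morphismRestrict_base_coe (f := i) U _).trans hy⟩
    have : IsAffine (i ⁻¹ᵁ U).toScheme := hiU ▸ hV
    exact Groth.FlatMor2.isAffine_of_surjective_closedImmersion (i ∣_ U)
  · rintro z ⟨hz, hzp⟩
    obtain ⟨y, rfl⟩ := hr.ge hzp
    exact (hiU ▸ hZV hz : y ∈ i ⁻¹ᵁ U)

/-- Every finite set of points of a group of finite type over an Artinian ring lies in an affine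
open. -/
theorem exists_affine_finite (G : Over (Spec (CommRingCat.of A))) [GrpObj G]
    [LocallyOfFiniteType G.hom] [QuasiCompact G.hom] (Z : Set G.left) (hZ : Z.Finite) :
    ∃ U : G.left.Opens, IsAffineOpen U ∧ Z ⊆ U := by
  choose U hU hUp hZU using fun p => exists_affine_finite_fibre G p Z hZ
  refine ⟨iSup U, IsAffineOpen.iSup_of_disjoint hU fun p q hpq => ?_, fun z hz =>
    Opens.mem_iSup.2 ⟨G.hom z, hZU _ ⟨hz, rfl⟩⟩⟩
  refine Disjoint.mono (hUp p) (hUp q) ?_
  rw [disjoint_iff, eq_bot_iff]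
  rintro z ⟨h1, h2⟩
  exact hpq ((show G.hom z = p from h1).symm.trans (show G.hom z = q from h2))

end Groth.GrpAmple
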