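import Groth.Agent.AbVarMul.Ample
import Groth.Agent.Abvar.Square.Groups
import Groth.Agent.AlgGrp1.Geom
import Groth.Agent.AlgGrp1.AffineCrit
import Groth.Agent.AlgGrp1.FrobPow
import Groth.Agent.GrpschAbsch.Cartier
import Groth.Agent.GrpschAbsch.NeutralSet
import Groth.Agent.GrpschAbsch.FieldComp
import Groth.Agent.Pi1Quot.SigmaFinite
import Groth.Agent.Chow.VeryAmplePn
import Groth.Agent.ConsAmple.QProj
import Groth.Agent.Ega2Proj.RelAmple

/-!
# Group schemes of finite type over a field are quasi-projective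

Over an algebraically closed field the theorem of the square for group varieties makes the divisor
complementary to an affine open of a connected smooth group ample; the other components are
translates, a power of Frobenius maps a group affinely to its reduced subgroup, and the existence
of an ample module descends along extensions of the ground field.
-/

set_option autoImplicit false
set_option linter.style.haveILetI false

universe u

open CategoryTheory Limits MonoidalCategory CartesianMonoidalCategory MonObj GrpObj AlgebraicGeometry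
  TopologicalSpace BlowUp

namespace Groth.GrpAmple

variable {k : Type u} [Field k]

local notation "pt" => (𝟙_ (Over (Spec (CommRingCat.of k))))

theorem isIso_left {S : Scheme.{u}} {X Y : Over S} (f : X ⟶ Y) [IsIso f] : IsIso f.left :=
  inferInstanceAs (IsIso ((Over.forget _).map f))

section connected

variable [IsAlgClosed k] (G : Over (Spec (CommRingCat.of k))) [GrpObj G]

/-- A smooth connected group of finite type over an algebraically closed field has an ample
invertible module. -/
theorem exists_isAmple_of_connected [Smooth G.hom] [QuasiCompact G.hom] [ConnectedSpace G.left] :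
    ∃ L : G.left.Modules, CohB1.IsAmple L := by
  have := AlgGrp1.geometricallyIntegral_of_smooth G
  have := AlgGrp1.isIntegral_of_smooth G
  have : IsSeparated G.hom := Groth.AlgGrp1.isSeparated_grpObj G
  have : CompactSpace G.left := QuasiCompact.compactSpace_of_compactSpace G.hom
  have := AbVarMul.isSeparated_left (A := G)
  have := LocallyOfFiniteType.jacobsonSpace G.hom
  have : IsLocallyNoetherian G.left := LocallyOfFiniteType.isLocallyNoetherian G.hom
  -- the complement of an affine open
  obtain ⟨W, hW, heW, -⟩ := exists_isAffineOpen_mem_and_subset (X := G.left) (U := (⊤ : G.left.Opens))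
    (x := η[G].left.base (IsLocalRing.closedPoint k)) trivial
  have hcar : IsEffCartierIdeal (Scheme.IdealSheafData.vanishingIdeal W.compl) := by
    refine FlatmorThree.AffineCompl.isEffCartierIdeal_compl (fun x => ?_) (fun U V hU hV => hU.inf hV) hW
      (W.2.dense ⟨_, heW⟩)
    have hfld : IsField ((Spec (CommRingCat.of k)).presheaf.stalk (G.hom x)) := by
      obtain ⟨p, hp⟩ := Groth.GrpschAbsch.FibreFlat.exists_isField_stalk
        (Spec (CommRingCat.of k)) (G.hom x)
      have : Subsingleton ↥(Spec (CommRingCat.of k)) := inferInstanceAs (Subsingleton (PrimeSpectrum k))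
      rwa [Subsingleton.elim (G.hom x) p]
    have : IsRegularLocalRing ((Spec (CommRingCat.of k)).presheaf.stalk (G.hom x)) := by
      let := hfld.toField
      infer_instance
    have := Groth.NeronArea.Weil.isRegularLocalRing_of_smooth G.hom x this
    exact ⟨inferInstance, Groth.PicAux.ufd_of_isRegularLocalRing _⟩
  obtain ⟨L, s, hL, -, hs⟩ := PicAux.exists_invertible_section hcar
  have hloc : CohB1.genLocus L s = W := by
    ext x
    rw [SetLike.mem_coe, PicAux.mem_genLocus_iff_not_mem_support hL, hs, ← SetLike.mem_coe,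
      Scheme.IdealSheafData.coe_support_vanishingIdeal]
    exact not_not
  refine ⟨L, hL, inferInstance, fun x => ?_⟩
  obtain ⟨z, hxz, hz⟩ : ∃ z, x ⤳ z ∧ IsClosed ({z} : Set G.left) := by
    obtain ⟨z, hz, hzc⟩ := IsClosed.exists_closed_singleton isClosed_closure
      (⟨x, subset_closure (Set.mem_singleton x)⟩ : (closure ({x} : Set G.left)).Nonempty)
    exact ⟨z, specializes_iff_mem_closure.2 hz, hzc⟩
  obtain ⟨p, hp⟩ := Groth.Abvar.exists_rationalPoint G hz
  let t : (pt ⟶ G) → (G ⟶ G) := fun b => (toUnit G ≫ b) * 𝟙 G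
  have ht : ∀ b, IsIso (t b).left := fun b =>
    have : IsIso (t b) := inferInstanceAs (IsIso (GrpschAbsch.translate G b).hom)
    isIso_left _
  -- right translation by `p`
  let r : G ⟶ G := 𝟙 G * (toUnit G ≫ p)
  have : IsIso r := ⟨𝟙 G * (toUnit G ≫ p⁻¹), by
      simp only [r]
      rw [MonObj.comp_mul, Category.comp_id, ← Category.assoc, toUnit_unique (_ ≫ toUnit G) (toUnit G),
        _root_.mul_assoc, ← MonObj.comp_mul, mul_inv_cancel, MonObj.comp_one, _root_.mul_one], by
      simp only [r]
      rw [MonObj.comp_mul, Category.comp_id, ← Category.assoc, toUnit_unique (_ ≫ toUnit G) (toUnit G),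
        _root_.mul_assoc, ← MonObj.comp_mul, inv_mul_cancel, MonObj.comp_one, _root_.mul_one]⟩
  have := isIso_left r
  have hι : IsIso (ι[G] : G ⟶ G) := ⟨ι[G], by
    rw [GrpObj.inv_eq_inv, GrpObj.comp_inv, Category.comp_id, _root_.inv_inv], by
    rw [GrpObj.inv_eq_inv, GrpObj.comp_inv, Category.comp_id, _root_.inv_inv]⟩
  have := isIso_left (ι[G] : G ⟶ G)
  let V := r.left ⁻¹ᵁ W
  have hV : (V : Set G.left).Nonempty :=
    Set.Nonempty.preimage ⟨_, heW⟩ r.left.homeomorph.surjective
  obtain ⟨c, ⟨hcV, hcι⟩, hc⟩ := nonempty_inter_closedPoints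
    (Z := ((V ⊓ (ι[G] : G ⟶ G).left ⁻¹ᵁ V : G.left.Opens) : Set G.left))
    (nonempty_preirreducible_inter V.2 ((ι[G] : G ⟶ G).left ⁻¹ᵁ V).2 hV
      (hV.preimage (ι[G] : G ⟶ G).left.homeomorph.surjective))
    (V ⊓ (ι[G] : G ⟶ G).left ⁻¹ᵁ V).2.isLocallyClosed
  obtain ⟨a, ha⟩ := Groth.Abvar.exists_rationalPoint G hc
  have hmem : ∀ b : pt ⟶ G, b.left.base (IsLocalRing.closedPoint k) ∈ V → z ∈ (t b).left ⁻¹ᵁ W := by
    intro b hb
    have e : p ≫ t b = b ≫ r := by
      simp only [t, r, MonObj.comp_mul, Category.comp_id, ← Category.assoc]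
      rw [toUnit_unique (p ≫ toUnit G) (𝟙 _), toUnit_unique (b ≫ toUnit G) (𝟙 _), Category.id_comp,
        Category.id_comp]
    show (t b).left.base z ∈ W
    have h2 : (t b).left.base (p.left.base (IsLocalRing.closedPoint k)) =
        r.left.base (b.left.base (IsLocalRing.closedPoint k)) :=
      congr(($e).left.base (IsLocalRing.closedPoint k))
    rw [← hp]
    exact h2 ▸ hb
  have hz₁ : z ∈ (t a).left ⁻¹ᵁ W := hmem a (ha ▸ hcV)
  have hz₂ : z ∈ (t a⁻¹).left ⁻¹ᵁ W := hmem a⁻¹ (by
    rw [show a⁻¹ = a ≫ ι[G] by rw [GrpObj.inv_eq_inv, GrpObj.comp_inv, Category.comp_id]]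
    show (ι[G] : G ⟶ G).left.base (a.left.base (IsLocalRing.closedPoint k)) ∈ V
    rw [ha]
    exact hcι)
  have := ht a
  have := ht a⁻¹
  have hsec : ∀ b, ∃ s' : Coh.structureModule G.left ⟶ (Scheme.Modules.pullback (t b).left).obj L,
      CohB1.genLocus _ s' = (t b).left ⁻¹ᵁ W := fun b =>
    ⟨PicAux.homOfSection (PicAux.pullSec (t b).left L (PicAux.gsec s)),
      (PicAux.genLocus_pullback _ hL s (PicAux.gsec_homOfSection _)).trans (by rw [hloc])⟩
  obtain ⟨s₁, hs₁⟩ := hsec a
  obtain ⟨s₂, hs₂⟩ := hsec a⁻¹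
  have h1 := PicLoc.isInvertible_pullback (t a).left hL
  have h2 := PicLoc.isInvertible_pullback (t a⁻¹).left hL
  -- the theorem of the square
  obtain ⟨e⟩ : Nonempty (CohB1.tensorMod ((Scheme.Modules.pullback (t a).left).obj L)
      ((Scheme.Modules.pullback (t a⁻¹).left).obj L) ≅ CohB1.tensorPow L (1 + 1)) := by
    let M := (Scheme.Modules.pullback μ[G].left).obj L
    have hM : PicF.IsInvertible M := PicLoc.isInvertible_pullback μ[G].left hL
    obtain ⟨e₀⟩ := Abvar.Square.nonempty_iso_slices (G := G) (W := G) hM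
      (a₁ := a) (a₂ := 1) (a₃ := 1) (a₄ := a⁻¹) (by simp)
    have hsl : ∀ b : pt ⟶ G, lift (toUnit G ≫ b) (𝟙 G) ≫ μ[G] = t b := fun b => (Hom.mul_def _ _).symm
    have pc : ∀ b, Nonempty ((Scheme.Modules.pullback (lift (toUnit G ≫ b) (𝟙 G)).left).obj M ≅
        (Scheme.Modules.pullback (t b).left).obj L) := fun b =>
      ⟨(Scheme.Modules.pullbackComp _ _).app L ≪≫
        (Scheme.Modules.pullbackCongr (congrArg CommaMorphism.left (hsl b))).app L⟩
    obtain ⟨ea⟩ := pc a
    obtain ⟨ea'⟩ := pc a⁻¹
    obtain ⟨e1⟩ := pc 1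
    have h1' : (t 1).left = 𝟙 G.left := by simp [t]
    let e1' := e1 ≪≫ (Scheme.Modules.pullbackCongr h1').app L ≪≫ (Scheme.Modules.pullbackId _).app L
    obtain ⟨eu⟩ := PicAux.tensorPow_one L
    exact ⟨PicGrp.tensorModIso ea.symm ea'.symm ≪≫ e₀ ≪≫ PicGrp.tensorModIso e1' e1' ≪≫
      PicGrp.tensorModIso eu.symm (Iso.refl L)⟩
  refine ⟨1, SecTwist.tmulHom s₁ s₂ ≫ e.hom, ?_⟩
  rw [PicAux.genLocus_comp_iso, PicAux.genLocus_tmulHom h1 h2, hs₁, hs₂]
  exact ⟨⟨hxz.mem_open ((t a).left ⁻¹ᵁ W).2 hz₁, hxz.mem_open ((t a⁻¹).left ⁻¹ᵁ W).2 hz₂⟩,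
    (hW.preimage_of_isIso _).inf (hW.preimage_of_isIso _)⟩

/-- A smooth group of finite type over an algebraically closed field has an ample invertible module. -/
theorem exists_isAmple_of_smooth [Smooth G.hom] [QuasiCompact G.hom] :
    ∃ L : G.left.Modules, CohB1.IsAmple L := by
  classical
  have : LocallyOfFiniteType G.hom := inferInstance
  obtain ⟨G₀, _, i, _, _, hr, _⟩ := GrpschAbsch.NeutralSet.exists_neutral_openSubgroup G
  have : CompactSpace G.left := QuasiCompact.compactSpace_of_compactSpace G.hom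
  have := LocallyOfFiniteType.jacobsonSpace G.hom
  have : Smooth G₀.hom := by rw [← Over.w i]; infer_instance
  have : CompactSpace G₀.left := ⟨i.left.isOpenEmbedding.isEmbedding.isInducing.isCompact_iff.2
    (by rw [Set.image_univ, hr]; exact isClosed_connectedComponent.isCompact)⟩
  have : QuasiCompact G₀.hom :=
    (quasiCompact_iff_compactSpace (f := G₀.hom)).2 inferInstance
  obtain ⟨L, hL⟩ := exists_isAmple_of_connected G₀
  -- representatives of the components
  have hopen : ∀ x : G.left, IsOpen (connectedComponent x) := GrpschAbsch.NeutralSet.isOpen_component G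
  obtain ⟨T, hT⟩ := isCompact_univ.elim_finite_subcover (fun x : G.left => connectedComponent x)
    hopen (fun x _ => Set.mem_iUnion.2 ⟨x, mem_connectedComponent⟩)
  have : Finite (_root_.ConnectedComponents G.left) := by
    refine Finite.of_surjective (fun x : T => _root_.ConnectedComponents.mk (x : G.left)) ?_
    rintro ⟨y⟩
    obtain ⟨x, hx, hy⟩ := Set.mem_iUnion₂.1 (hT (Set.mem_univ y))
    exact ⟨⟨x, hx⟩, _root_.ConnectedComponents.coe_eq_coe'.2
      (by rw [← connectedComponent_eq hy]; exact mem_connectedComponent)⟩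
  have hrep : ∀ c : _root_.ConnectedComponents G.left, ∃ a : pt ⟶ G,
      _root_.ConnectedComponents.mk (a.left (IsLocalRing.closedPoint k)) = c := by
    rintro ⟨y⟩
    obtain ⟨x, hx, hxc⟩ := IsClosed.exists_closed_singleton (isClosed_connectedComponent (x := y))
      ⟨y, mem_connectedComponent⟩
    obtain ⟨a, ha⟩ := Groth.Abvar.exists_rationalPoint G hxc
    exact ⟨a, _root_.ConnectedComponents.coe_eq_coe'.2 (by rw [ha]; exact hx)⟩
  choose a ha using hrep
  let j : _root_.ConnectedComponents G.left → (G₀.left ⟶ G.left) :=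
    fun c => i.left ≫ (GrpschAbsch.translate G (a c)).hom.left
  have hisot : ∀ b, IsIso (GrpschAbsch.translate G b).hom.left := fun b => isIso_left _
  have hrange : ∀ c, Set.range (j c) =
      connectedComponent ((a c).left (IsLocalRing.closedPoint k)) := by
    intro c
    have := hisot (a c)
    let τ := (GrpschAbsch.translate G (a c)).hom.left
    rw [show Set.range (j c) = τ '' Set.range i.left from Set.range_comp τ i.left, hr]
    have he : τ (η[G].left (IsLocalRing.closedPoint k)) = (a c).left (IsLocalRing.closedPoint k) :=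
      congr(($(GrpschAbsch.one_comp_translate G (a c))).left.base (IsLocalRing.closedPoint k))
    refine Set.Subset.antisymm (he ▸ τ.continuous.image_connectedComponent_subset _) ?_
    intro y hy
    refine ⟨τ.homeomorph.symm y, ?_, τ.homeomorph.apply_symm_apply y⟩
    have h := τ.homeomorph.symm.continuous.image_connectedComponent_subset
      ((a c).left (IsLocalRing.closedPoint k)) ⟨y, hy, rfl⟩
    rwa [show τ.homeomorph.symm ((a c).left (IsLocalRing.closedPoint k)) = η[G].left (IsLocalRing.closedPoint k)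
      from τ.homeomorph.injective (by rw [Homeomorph.apply_symm_apply]; exact he.symm)] at h
  have hj : ∀ c, IsOpenImmersion (j c) := fun c => by
    have := hisot (a c)
    infer_instance
  obtain ⟨hcol⟩ := nonempty_isColimit_cofanMk_of j (by
      refine eq_top_iff.2 fun y _ => ?_
      refine Opens.mem_iSup.2 ⟨_root_.ConnectedComponents.mk y, ?_⟩
      show y ∈ Set.range (j _)
      rw [hrange, ← connectedComponent_eq_iff_mem, ← _root_.ConnectedComponents.coe_eq_coe, ha])
    (fun c c' hcc' => by
      change Disjoint (j c).opensRange (j c').opensRange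
      rw [disjoint_iff]
      refine eq_bot_iff.2 fun y hy => hcc' ?_
      obtain ⟨h, h'⟩ : y ∈ Set.range (j c) ∧ y ∈ Set.range (j c') := hy
      rw [hrange] at h h'
      rw [← ha c, ← ha c', _root_.ConnectedComponents.coe_eq_coe, connectedComponent_eq h,
        connectedComponent_eq h'])
  have : IsIso (Sigma.desc j) :=
    (Cofan.nonempty_isColimit_iff_isIso_sigmaDesc (Cofan.mk G.left j)).1 ⟨hcol⟩
  have : IsFinite (Sigma.desc fun _ : _root_.ConnectedComponents G.left => 𝟙 G₀.left) :=
    Pi1Quot.isFinite_sigmaDesc _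
  exact ⟨_, Chow.isAmple_pullback_of_isAffineHom
    (inv (Sigma.desc j) ≫ Sigma.desc fun _ => 𝟙 G₀.left) hL⟩

/-- A group of finite type over an algebraically closed field has an ample invertible module. -/
theorem exists_isAmple_of_isAlgClosed [LocallyOfFiniteType G.hom] [QuasiCompact G.hom] :
    ∃ L : G.left.Modules, CohB1.IsAmple L := by
  obtain ⟨p, hp⟩ := CharP.exists k
  rcases CharP.char_is_prime_or_zero k p with hprime | rfl
  · have : Fact p.Prime := ⟨hprime⟩
    obtain ⟨Z, _, c, _, _, _, _, _⟩ := AlgGrp1.exists_reduced_subgroup G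
    obtain ⟨L, hL⟩ := exists_isAmple_of_smooth Z
    have : FrobSch.IsCharP G.left p := FrobSch.IsCharP.of_hom G.hom p
    have : IsLocallyNoetherian G.left := LocallyOfFiniteType.isLocallyNoetherian G.hom
    have : CompactSpace G.left := QuasiCompact.compactSpace_of_compactSpace G.hom
    obtain ⟨r, ψ, hψ⟩ := AlgGrp1.FrobPow.exists_Fp_factor G.left p c.left
    have : IsAffineHom (ψ ≫ c.left) := by
      rw [hψ]
      refine ⟨fun U hU => ?_⟩
      rwa [show AlgGrp1.FrobPow.Fp G.left p r ⁻¹ᵁ U = U from Opens.ext (by ext; simp)]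
    have : IsAffineHom ψ := IsAffineHom.of_comp ψ c.left
    exact ⟨_, Chow.isAmple_pullback_of_isAffineHom ψ hL⟩
  · have : CharZero k := CharP.charP_to_charZero k
    have := GrpschAbsch.smooth_of_charZero G
    exact exists_isAmple_of_smooth G

end connected

/-- A group scheme of finite type over a field has an ample invertible module. -/
theorem exists_isAmple (G : Over (Spec (CommRingCat.of k))) [GrpObj G] [LocallyOfFiniteType G.hom]
    [QuasiCompact G.hom] : ∃ L : G.left.Modules, CohB1.IsAmple L := by
  let K := AlgebraicClosure k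
  let t : Spec (CommRingCat.of K) ⟶ Spec (CommRingCat.of k) :=
    Spec.map (CommRingCat.ofHom (algebraMap k K))
  let : GrpObj ((Over.pullback t).obj G) := Functor.grpObjObj
  have : LocallyOfFiniteType ((Over.pullback t).obj G).hom :=
    inferInstanceAs (LocallyOfFiniteType (pullback.snd G.hom t))
  have : QuasiCompact ((Over.pullback t).obj G).hom :=
    inferInstanceAs (QuasiCompact (pullback.snd G.hom t))
  obtain ⟨L, hL⟩ := exists_isAmple_of_isAlgClosed ((Over.pullback t).obj G)
  have : CompactSpace G.left := QuasiCompact.compactSpace_of_compactSpace G.hom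
  have : LocallyOfFiniteType (G.hom ≫ 𝟙 (Spec (CommRingCat.of k))) := by
    rw [Category.comp_id]; infer_instance
  have : QuasiCompact (G.hom ≫ 𝟙 (Spec (CommRingCat.of k))) := by
    rw [Category.comp_id]; infer_instance
  have hrel : RelAmple.IsRelAmple (pullback.snd G.hom t) L :=
    Groth.Ega2Proj.isRelAmple_of_local _ fun x => ⟨⊤, _, 𝟙 _, inferInstance, trivial,
      fun y _ => ⟨y, rfl⟩,
      Groth.Ega2Proj.isAmple_of_iso (Scheme.Modules.restrictFunctorId.app L).symm hL⟩
  obtain ⟨N, hN⟩ := ConsAmple.exists_isRelAmple_of_field (Field.toIsField k) (Field.toIsField K)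
    (CommRingCat.ofHom (algebraMap k K)) G.hom (𝟙 (Spec (CommRingCat.of k)))
    (IsPullback.of_hasPullback G.hom t) (v' := 𝟙 _) IsPullback.of_id_snd hrel
  exact ⟨N, Groth.Ega2Proj.isAmple_of_iso (Scheme.Modules.restrictFunctorId.app N)
    (Groth.Ega2Proj.isAmple_of_isRelAmple hN ⟨⊤, isAffineOpen_top _⟩ (𝟙 _) (fun _ _ => trivial))⟩

end Groth.GrpAmple
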